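import Groth.Agent.Ega4A.FlatRegular
import Groth.Agent.Models.RegFibre
import Mathlib.RingTheory.Regular.RegularSequence

/-!
# Regular sequences and flatness over a local base

* `of_fibre`: a sequence regular on `M/mM` (`M` flat over `A`) is regular on `M`, with flat quotients;
* `flat_take`: if `M/(fs)M` is flat over `A` and `fs` is `M`-regular then all `M/(f₁..fᵢ)M` are flat.
-/

set_option autoImplicit false
universe u v w

namespace K103.FlatSeq

open IsLocalRing RingTheory.Sequence Pointwise TensorProduct Submodule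

/-- `(M/IM)/x(M/IM) = (M/xM)/I(M/xM)`. -/
noncomputable def quotSMulTopQuotEquiv {B : Type u} [CommRing B] (I : Ideal B) (x : B) (M : Type v)
    [AddCommGroup M] [Module B M] :
    QuotSMulTop x (M ⧸ (I • (⊤ : Submodule B M))) ≃ₗ[B]
      (QuotSMulTop x M) ⧸ (I • (⊤ : Submodule B (QuotSMulTop x M))) :=
  (quotEquivOfEq _ _ (by rw [map_pointwise_smul, Submodule.map_top, range_mkQ])).symm ≪≫ₗ
    (quotientQuotientEquivQuotientSup (I • (⊤ : Submodule B M)) (x • (⊤ : Submodule B M))) ≪≫ₗ
      quotEquivOfEq _ _ (sup_comm _ _) ≪≫ₗ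
        (quotientQuotientEquivQuotientSup (x • (⊤ : Submodule B M)) (I • (⊤ : Submodule B M))).symm ≪≫ₗ
          quotEquivOfEq _ _ (by rw [map_smul'', Submodule.map_top, range_mkQ])

section

variable {A B : Type u} [CommRing A] [CommRing B]
  [IsLocalRing A] [IsLocalRing B] [IsNoetherianRing A] [IsNoetherianRing B] [Algebra A B]
  [IsLocalHom (algebraMap A B)]

theorem isSMulRegular_of_fibre {M : Type v} [AddCommGroup M] [Module B M] [Module A M]
    [IsScalarTower A B M] [Module.Finite B M] [Module.Flat A M] {x : B}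
    (h : IsSMulRegular (M ⧸ ((maximalIdeal A).map (algebraMap A B) • (⊤ : Submodule B M))) x) :
    IsSMulRegular M x := by
  have h1 := Groth.Agent.Ega4A.FlatRegular.isSMulRegular_tensor (R := A) (S := B) h A
  have e : M ⊗[A] A ≃ₗ[B] M := AlgebraTensorModule.rid A B M
  exact (e.isSMulRegular_congr x).mp h1

theorem of_fibre (fs : List B) : ∀ (M : Type v) [AddCommGroup M] [Module B M] [Module A M]
    [IsScalarTower A B M] [Module.Finite B M] [Module.Flat A M],
    IsWeaklyRegular (M ⧸ ((maximalIdeal A).map (algebraMap A B) • (⊤ : Submodule B M))) fs →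
    IsWeaklyRegular M fs ∧
      ∀ i ≤ fs.length, Module.Flat A (M ⧸ (Ideal.ofList (fs.take i) • (⊤ : Submodule B M))) := by
  induction fs with
  | nil =>
    intro M _ _ _ _ _ _ _
    refine ⟨IsWeaklyRegular.nil B M, fun i _ => ?_⟩
    have h0 : (Ideal.ofList (([] : List B).take i) • (⊤ : Submodule B M)) = ⊥ := by
      rw [List.take_nil, Ideal.ofList_nil, Submodule.bot_smul]
    exact Module.Flat.of_linearEquiv ((Submodule.quotEquivOfEqBot _ h0).restrictScalars A)
  | cons x fs ih =>
    intro M _ _ _ _ _ _ h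
    rw [isWeaklyRegular_cons_iff] at h ⊢
    have h1 := isSMulRegular_of_fibre h.1
    have hfl : Module.Flat A (QuotSMulTop x M) :=
      Groth.Agent.Ega4A.FlatRegular.flat_quotSMulTop (R := A) (S := B) h.1
    obtain ⟨h2, h3⟩ := ih (QuotSMulTop x M)
      (((quotSMulTopQuotEquiv _ x M).isWeaklyRegular_congr fs).mp h.2)
    refine ⟨⟨h1, h2⟩, fun i hi => ?_⟩
    cases i with
    | zero =>
      have h0 : (Ideal.ofList ((x :: fs).take 0) • (⊤ : Submodule B M)) = ⊥ := by
        rw [List.take_zero, Ideal.ofList_nil, Submodule.bot_smul]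
      exact Module.Flat.of_linearEquiv ((Submodule.quotEquivOfEqBot _ h0).restrictScalars A)
    | succ i =>
      have h4 := h3 i (by simpa using hi)
      rw [List.take_succ_cons]
      exact Module.Flat.of_linearEquiv
        ((quotOfListConsSMulTopEquivQuotSMulTopInner M x (fs.take i)).restrictScalars A)

theorem flat_take (fs : List B) : ∀ (M : Type u) [AddCommGroup M] [Module B M] [Module A M]
    [IsScalarTower A B M] [Module.Finite B M] (_ : ∀ f ∈ fs, f ∈ maximalIdeal B)
    (_ : IsWeaklyRegular M fs) (_ : Module.Flat A (M ⧸ (Ideal.ofList fs • (⊤ : Submodule B M))))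
    (i : ℕ) (_ : i ≤ fs.length),
    Module.Flat A (M ⧸ (Ideal.ofList (fs.take i) • (⊤ : Submodule B M))) := by
  induction fs with
  | nil =>
    intro M _ _ _ _ _ _ _ h i _
    rwa [List.take_nil]
  | cons x fs ih =>
    intro M _ _ _ _ _ hm hreg hfl i hi
    rw [isWeaklyRegular_cons_iff] at hreg
    have h1 : Module.Flat A (QuotSMulTop x M ⧸ (Ideal.ofList fs • (⊤ : Submodule B (QuotSMulTop x M)))) :=
      Module.Flat.of_linearEquiv
        ((quotOfListConsSMulTopEquivQuotSMulTopInner M x fs).symm.restrictScalars A)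
    have h2 := ih (QuotSMulTop x M) (fun f hf => hm f (List.mem_cons_of_mem _ hf)) hreg.2 h1
    cases i with
    | zero =>
      have h3 := h2 0 (Nat.zero_le _)
      have h4 : (Ideal.ofList (fs.take 0) • (⊤ : Submodule B (QuotSMulTop x M))) = ⊥ := by
        rw [List.take_zero, Ideal.ofList_nil, Submodule.bot_smul]
      have h5 : Module.Flat A (QuotSMulTop x M) :=
        Module.Flat.of_linearEquiv ((Submodule.quotEquivOfEqBot _ h4).symm.restrictScalars A)
      have h6 : Module.Flat A M :=
        Groth.Agent.Models.RegFibre.flat_of_quotSMulTop x (hm x List.mem_cons_self) hreg.1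
      have h0 : (Ideal.ofList ((x :: fs).take 0) • (⊤ : Submodule B M)) = ⊥ := by
        rw [List.take_zero, Ideal.ofList_nil, Submodule.bot_smul]
      exact Module.Flat.of_linearEquiv ((Submodule.quotEquivOfEqBot _ h0).restrictScalars A)
    | succ i =>
      have h4 := h2 i (by simpa using hi)
      rw [List.take_succ_cons]
      exact Module.Flat.of_linearEquiv
        ((quotOfListConsSMulTopEquivQuotSMulTopInner M x (fs.take i)).restrictScalars A)

end

end K103.FlatSeq
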