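import Groth.Agent.Ega4A.FlatDim
import Mathlib.RingTheory.KrullDimension.NonZeroDivisors
import Mathlib.RingTheory.KrullDimension.LocalRing

/-!
# `dim B ≤ dim A + dim B/mB` and its module version
-/

set_option autoImplicit false
universe u v w w'

namespace K103.FibDim

open IsLocalRing Groth.Agent.Ega4A.FlatDim TensorProduct

/-- `dim B ≤ dim A + dim (B/m_A B)` for a local homomorphism of Noetherian local rings. -/
theorem ringKrullDim_le_add (A : Type u) (B : Type v) [CommRing A] [CommRing B]
    [IsLocalRing A] [IsLocalRing B] [IsNoetherianRing A] [IsNoetherianRing B] [Algebra A B]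
    [IsLocalHom (algebraMap A B)] :
    ringKrullDim B ≤ ringKrullDim A +
      ringKrullDim (B ⧸ (maximalIdeal A).map (algebraMap A B)) := by
  have hlo : (maximalIdeal B).LiesOver (maximalIdeal A) :=
    ⟨(IsLocalRing.maximalIdeal_comap (algebraMap A B)).symm⟩
  have key := Ideal.height_le_height_add_of_liesOver (maximalIdeal A) (maximalIdeal B)
  have : IsLocalRing (B ⧸ (maximalIdeal A).map (algebraMap A B)) :=
    isLocalRing_quotient' (IsLocalRing.map_maximalIdeal_le _)
  rw [map_maximalIdeal_quotient] at key
  rw [← IsLocalRing.maximalIdeal_height_eq_ringKrullDim (R := B),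
    ← IsLocalRing.maximalIdeal_height_eq_ringKrullDim (R := A),
    ← IsLocalRing.maximalIdeal_height_eq_ringKrullDim (R := B ⧸ _), ← WithBot.coe_add]
  exact WithBot.coe_le_coe.mpr key

section Dim

variable (A : Type u) (B : Type v) [CommRing A] [CommRing B] [Algebra A B]
  (M : Type w) [AddCommGroup M] [Module A M]
  (N : Type w') [AddCommGroup N] [Module B N] [Module A N] [IsScalarTower A B N]
  [IsNoetherianRing A]
  [IsNoetherianRing B] [IsLocalRing A] [IsLocalRing B] [IsLocalHom (algebraMap A B)]
  [Module.Finite A M] [Nontrivial M] [Module.Finite B N] [Nontrivial N]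

omit [Module A N] [IsScalarTower A B N] [Module.Finite A M] [Module.Finite B N] in
theorem ringKrullDim_quotient_K_le : ringKrullDim (B ⧸ K A B M N) ≤
    ringKrullDim (A ⧸ Module.annihilator A M) +
      ringKrullDim (B ⧸ (Module.annihilator B N ⊔ (maximalIdeal A).map (algebraMap A B))) := by
  let : Algebra (A ⧸ Module.annihilator A M) (B ⧸ K A B M N) := (φ A B M N).toAlgebra
  have hI : Module.annihilator A M ≤ IsLocalRing.maximalIdeal A :=
    IsLocalRing.le_maximalIdeal (by
      rw [Ne, Module.annihilator_eq_top_iff, not_subsingleton_iff_nontrivial]; infer_instance)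
  have hJ : Module.annihilator B N ≤ IsLocalRing.maximalIdeal B :=
    IsLocalRing.le_maximalIdeal (by
      rw [Ne, Module.annihilator_eq_top_iff, not_subsingleton_iff_nontrivial]; infer_instance)
  have hm : (maximalIdeal A).map (algebraMap A B) ≤ IsLocalRing.maximalIdeal B :=
    IsLocalRing.map_maximalIdeal_le _
  have hK : K A B M N ≤ IsLocalRing.maximalIdeal B :=
    sup_le hJ ((Ideal.map_mono hI).trans hm)
  have : IsLocalRing (A ⧸ Module.annihilator A M) := isLocalRing_quotient' hI
  have : IsLocalRing (B ⧸ K A B M N) := isLocalRing_quotient' hK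
  have hloc : IsLocalHom (algebraMap (A ⧸ Module.annihilator A M) (B ⧸ K A B M N)) := by
    refine ((IsLocalRing.local_hom_TFAE
      (algebraMap (A ⧸ Module.annihilator A M) (B ⧸ K A B M N))).out 0 4).mpr ?_
    apply Ideal.comap_injective_of_surjective _ (Ideal.Quotient.mk_surjective)
    show Ideal.comap (Ideal.Quotient.mk _) (Ideal.comap (φ A B M N) _) = _
    rw [Ideal.comap_comap, φ_comp, ← Ideal.comap_comap, comap_maximalIdeal_quotient,
      comap_maximalIdeal_quotient]
    exact (IsLocalRing.maximalIdeal_comap (algebraMap A B))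
  have key := ringKrullDim_le_add (A ⧸ Module.annihilator A M) (B ⧸ K A B M N)
  refine key.trans (add_le_add le_rfl (le_of_eq ?_))
  have e1 : (IsLocalRing.maximalIdeal (A ⧸ Module.annihilator A M)).map
      (algebraMap (A ⧸ Module.annihilator A M) (B ⧸ K A B M N)) =
      ((maximalIdeal A).map (algebraMap A B)).map (Ideal.Quotient.mk (K A B M N)) := by
    rw [← map_maximalIdeal_quotient, Ideal.map_map]
    show Ideal.map ((φ A B M N).comp _) _ = _
    rw [φ_comp, ← Ideal.map_map]
  have e2 : K A B M N ⊔ (maximalIdeal A).map (algebraMap A B) =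
      Module.annihilator B N ⊔ (maximalIdeal A).map (algebraMap A B) := by
    apply le_antisymm
    · refine sup_le (sup_le le_sup_left ?_) le_sup_right
      exact (Ideal.map_mono hI).trans le_sup_right
    · exact sup_le (le_sup_left.trans le_sup_left) le_sup_right
  exact ringKrullDim_eq_of_ringEquiv ((Ideal.quotEquivOfEq e1).trans
    ((DoubleQuot.quotQuotEquivQuotSup (K A B M N) ((maximalIdeal A).map (algebraMap A B))).trans
      (Ideal.quotEquivOfEq e2)))

/-- `dim (M ⊗ N) ≤ dim M + dim (N/mN)`. -/
theorem supportDim_tensor_le_add : Module.supportDim B (N ⊗[A] M) ≤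
      Module.supportDim A M +
        Module.supportDim B (N ⧸ ((maximalIdeal A).map (algebraMap A B) • (⊤ : Submodule B N))) := by
  have h1 : Module.supportDim B (N ⊗[A] M) = ringKrullDim (B ⧸ K A B M N) := by
    rw [Module.supportDim, ringKrullDim_quotient, Groth.Agent.Ega4A.SuppTensor.support_tensor_left,
      Module.support_eq_zeroLocus, Module.support_eq_zeroLocus,
      PrimeSpectrum.preimage_comap_zeroLocus, PrimeSpectrum.zeroLocus_sup, Ideal.map,
      PrimeSpectrum.zeroLocus_span]
  have h2 : Module.supportDim B (N ⧸ ((maximalIdeal A).map (algebraMap A B) • (⊤ : Submodule B N))) =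
      ringKrullDim (B ⧸ (Module.annihilator B N ⊔ (maximalIdeal A).map (algebraMap A B))) := by
    rw [Module.supportDim, ringKrullDim_quotient, Module.support_quotient,
      Module.support_eq_zeroLocus, PrimeSpectrum.zeroLocus_sup]
  rw [h1, h2, Module.supportDim_eq_ringKrullDim_quotient_annihilator]
  exact ringKrullDim_quotient_K_le A B M N

end Dim

/-- A local homomorphism from a Noetherian local domain `A` with `m_A B` primary to the maximal
ideal and `dim A = dim B` is injective. -/
theorem injective_of_dim_eq (A : Type u) (B : Type v) [CommRing A] [CommRing B]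
    [IsLocalRing A] [IsLocalRing B] [IsNoetherianRing A] [IsNoetherianRing B] [Algebra A B]
    [IsLocalHom (algebraMap A B)] [IsDomain A]
    (hdef : ringKrullDim (B ⧸ (maximalIdeal A).map (algebraMap A B)) = 0)
    (hdim : ringKrullDim A = ringKrullDim B) : Function.Injective (algebraMap A B) := by
  rw [injective_iff_map_eq_zero]
  intro a ha
  by_contra hne
  have ham : a ∈ maximalIdeal A := by
    rw [IsLocalRing.mem_maximalIdeal, mem_nonunits_iff]
    intro hu
    have := hu.map (algebraMap A B)
    rw [ha] at this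
    exact not_isUnit_zero this
  let ψ : A ⧸ Ideal.span {a} →+* B := Ideal.Quotient.lift (Ideal.span {a}) (algebraMap A B) (by
    intro x hx
    obtain ⟨c, rfl⟩ := Ideal.mem_span_singleton'.mp hx
    rw [map_mul, ha, mul_zero])
  have : IsLocalRing (A ⧸ Ideal.span {a}) :=
    isLocalRing_quotient' ((Ideal.span_singleton_le_iff_mem _).mpr ham)
  let : Algebra (A ⧸ Ideal.span {a}) B := ψ.toAlgebra
  have hcomp : (algebraMap (A ⧸ Ideal.span {a}) B).comp (Ideal.Quotient.mk (Ideal.span {a})) =
      algebraMap A B := by
    ext x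
    rfl
  have hloc : IsLocalHom (algebraMap (A ⧸ Ideal.span {a}) B) := by
    refine ((IsLocalRing.local_hom_TFAE (algebraMap (A ⧸ Ideal.span {a}) B)).out 0 4).mpr ?_
    apply Ideal.comap_injective_of_surjective _ (Ideal.Quotient.mk_surjective)
    rw [Ideal.comap_comap, hcomp, comap_maximalIdeal_quotient]
    exact (IsLocalRing.maximalIdeal_comap (algebraMap A B))
  have key := ringKrullDim_le_add (A ⧸ Ideal.span {a}) B
  have e1 : (maximalIdeal (A ⧸ Ideal.span {a})).map (algebraMap (A ⧸ Ideal.span {a}) B) =
      (maximalIdeal A).map (algebraMap A B) := by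
    rw [← map_maximalIdeal_quotient, Ideal.map_map, hcomp]
  rw [e1, hdef, add_zero] at key
  have h1 := ringKrullDim_quotient_succ_le_of_nonZeroDivisor (mem_nonZeroDivisors_of_ne_zero hne)
  have h2 : ringKrullDim B + 1 ≤ ringKrullDim B := by
    rw [hdim] at h1
    exact (add_le_add key le_rfl).trans h1
  have h3 : ringKrullDim B < ⊤ := ringKrullDim_lt_top
  have h4 : ringKrullDim B ≠ ⊥ := ringKrullDim_ne_bot
  obtain ⟨b, hb⟩ := WithBot.ne_bot_iff_exists.mp h4
  rw [← hb] at h2 h3
  have h5 : b + 1 ≤ b := by exact_mod_cast h2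
  have h6 : b ≠ ⊤ := by
    rintro rfl
    exact lt_irrefl _ h3
  exact absurd h5 (not_le.mpr ((ENat.lt_add_one_iff h6).mpr le_rfl))

end K103.FibDim
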