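import Groth.Agent.Models.RegFibre
import Mathlib.LinearAlgebra.TensorProduct.Quotient

/-!
# `P ∩ IM = IP` when `M/P` is flat
-/

set_option autoImplicit false
universe u v w

namespace K103.FlatSub

open TensorProduct

theorem inf_smul_top_le_smul {A : Type u} [CommRing A] {M : Type v} [AddCommGroup M] [Module A M]
    (P : Submodule A M) [Module.Flat A (M ⧸ P)] (I : Ideal A) :
    P ⊓ I • (⊤ : Submodule A M) ≤ I • P := by
  rintro x ⟨hxP, hxI⟩
  have h1 : Function.Injective (P.subtype.lTensor (A ⧸ I)) :=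
    Groth.Agent.Models.RegFibre.lTensor_injective_of_flat P.subtype P.mkQ P.injective_subtype
      (LinearMap.exact_subtype_mkQ P) P.mkQ_surjective (A ⧸ I)
  have h2 : (1 : A ⧸ I) ⊗ₜ[A] x = 0 := by
    apply (quotTensorEquivQuotSMul M I).injective
    rw [map_zero]
    have h := quotTensorEquivQuotSMul_mk_tmul (M := M) I (1 : A) x
    rw [map_one] at h
    rw [h, one_smul, Submodule.Quotient.mk_eq_zero]
    exact hxI
  have h3 : (1 : A ⧸ I) ⊗ₜ[A] (⟨x, hxP⟩ : P) = 0 := by
    apply h1
    rw [LinearMap.lTensor_tmul, map_zero]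
    exact h2
  have h4 : (⟨x, hxP⟩ : P) ∈ I • (⊤ : Submodule A P) := by
    have h := quotTensorEquivQuotSMul_mk_tmul (M := P) I (1 : A) (⟨x, hxP⟩ : P)
    rw [map_one, h3, map_zero, one_smul] at h
    exact (Submodule.Quotient.mk_eq_zero _).mp h.symm
  have h5 := Submodule.mem_map_of_mem (f := P.subtype) h4
  rw [Submodule.map_smul'', Submodule.map_top, Submodule.range_subtype] at h5
  exact h5

/-- version for a `B`-submodule. -/
theorem inf_smul_top_le_smul' {A B : Type u} [CommRing A] [CommRing B] [Algebra A B] {M : Type v}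
    [AddCommGroup M] [Module B M] [Module A M] [IsScalarTower A B M]
    (P : Submodule B M) [Module.Flat A (M ⧸ P)] (I : Ideal A) :
    P ⊓ I.map (algebraMap A B) • (⊤ : Submodule B M) ≤ I.map (algebraMap A B) • P := by
  rintro x ⟨hxP, hxI⟩
  have hfl : Module.Flat A (M ⧸ (P.restrictScalars A)) :=
    Module.Flat.of_linearEquiv (Submodule.Quotient.restrictScalarsEquiv A P)
  have h1 : x ∈ I • (⊤ : Submodule A M) := by
    have : ((I.map (algebraMap A B)) • (⊤ : Submodule B M)).restrictScalars A =
        I • (⊤ : Submodule A M) := by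
      rw [Ideal.smul_restrictScalars]
      rfl
    rw [← this]
    exact hxI
  have h2 := inf_smul_top_le_smul (P.restrictScalars A) I ⟨hxP, h1⟩
  rw [← Ideal.smul_restrictScalars] at h2
  exact h2

end K103.FlatSub
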