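import Groth.Agent.S3405
import Groth.Agent.Sga67.SymAlg
import Groth.Agent.CalgA.RegBasic
import Mathlib.RingTheory.Polynomial.HilbertPoly
import Mathlib.Data.Sym.Card
import Mathlib.RingTheory.Length

/-!
# The Hilbert function of a quasi-regular ideal and of a regular local ring

* `length_quot_pow_succ`: `length(A/I^(n+1)) = length(A/I^n) + C(c+n-1,n) length(A/I)` for `I` generated by
  a quasi-regular sequence of length `c`;
* `length_of_regular`: the Hilbert-Samuel function of a regular local ring;
* `regular_of_length`: converse.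
-/

set_option autoImplicit false
universe u

namespace K103.HilbReg

open IsLocalRing Groth.Agent.Sga67.SymAlg

section quasi

variable {A : Type u} [CommRing A] {c : ℕ} (f : Fin c → A)

theorem mon_mem (n : ℕ) (s : Sym (Fin c) n) : mon f s ∈ Ideal.span (Set.range f) ^ n := by
  rw [span_mon]
  exact Ideal.subset_span ⟨s, rfl⟩

/-- the sum of the monomials, as a map on coefficient families -/
noncomputable def g0 (n : ℕ) : (Sym (Fin c) n → A) →ₗ[A] A ⧸ Ideal.span (Set.range f) ^ (n + 1) :=
  (Submodule.mkQ (Ideal.span (Set.range f) ^ (n + 1))).comp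
    (∑ s : Sym (Fin c) n, (LinearMap.mulRight A (mon f s)).comp (LinearMap.proj s))

theorem g0_apply (n : ℕ) (a : Sym (Fin c) n → A) :
    g0 f n a = Ideal.Quotient.mk _ (∑ s, a s * mon f s) := by
  simp [g0]

theorem ker_g0 (hf : CAlgX.IsQuasiRegular f) (n : ℕ) :
    LinearMap.ker (g0 f n) =
      Submodule.pi Set.univ (fun _ => (Ideal.span (Set.range f) : Submodule A A)) := by
  ext a
  rw [LinearMap.mem_ker, g0_apply, Ideal.Quotient.eq_zero_iff_mem]
  constructor
  · intro h s _
    exact mem_of_sum_mem f hf a h s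
  · intro h
    refine Ideal.sum_mem _ fun s _ => ?_
    rw [pow_succ']
    exact Ideal.mul_mem_mul (h s trivial) (mon_mem f n s)

theorem range_g0 (n : ℕ) :
    LinearMap.range (g0 f n) =
      LinearMap.ker (Submodule.factor (Ideal.pow_le_pow_right (I := Ideal.span (Set.range f))
        (Nat.le_succ n))) := by
  ext x
  obtain ⟨x, rfl⟩ := Submodule.mkQ_surjective _ x
  rw [LinearMap.mem_ker, Submodule.mkQ_apply]
  change _ ↔ (Submodule.Quotient.mk x : A ⧸ Ideal.span (Set.range f) ^ n) = 0
  rw [Submodule.Quotient.mk_eq_zero, mem_pow_iff, LinearMap.mem_range]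
  constructor
  · rintro ⟨a, ha⟩
    rw [g0_apply] at ha
    have h1 : (∑ s, a s * mon f s) - x ∈ Ideal.span (Set.range f) ^ (n + 1) :=
      Ideal.Quotient.eq.mp ha
    have h2 : (∑ s, a s * mon f s) - x ∈ Ideal.span (Set.range f) ^ n :=
      Ideal.pow_le_pow_right (Nat.le_succ n) h1
    have h3 : x ∈ Ideal.span (Set.range f) ^ n := by
      have h4 : (∑ s, a s * mon f s) ∈ Ideal.span (Set.range f) ^ n := (mem_pow_iff f _).mpr ⟨a, rfl⟩
      have := Ideal.sub_mem _ h4 h2
      rwa [sub_sub_cancel] at this
    exact (mem_pow_iff f _).mp h3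
  · rintro ⟨a, rfl⟩
    exact ⟨a, g0_apply f n a⟩

theorem length_quot_pow_succ (hf : CAlgX.IsQuasiRegular f) (n : ℕ) :
    Module.length A (A ⧸ Ideal.span (Set.range f) ^ (n + 1)) =
      (Nat.multichoose c n : ℕ∞) * Module.length A (A ⧸ Ideal.span (Set.range f)) +
        Module.length A (A ⧸ Ideal.span (Set.range f) ^ n) := by
  classical
  let k : (Sym (Fin c) n → A) →ₗ[A] (Sym (Fin c) n → A ⧸ Ideal.span (Set.range f)) :=
    LinearMap.pi fun s => (Submodule.mkQ (Ideal.span (Set.range f))).comp (LinearMap.proj s)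
  have hk : Function.Surjective k := by
    intro b
    choose a ha using fun s => Submodule.mkQ_surjective _ (b s)
    exact ⟨a, funext ha⟩
  have hkk : LinearMap.ker k = LinearMap.ker (g0 f n) := by
    rw [ker_g0 f hf]
    ext a
    rw [LinearMap.mem_ker, Submodule.mem_pi]
    constructor
    · intro h s _
      exact (Submodule.Quotient.mk_eq_zero _).mp (congrFun h s)
    · intro h
      funext s
      exact (Submodule.Quotient.mk_eq_zero _).mpr (h s trivial)
  have e : (Sym (Fin c) n → A ⧸ Ideal.span (Set.range f)) ≃ₗ[A] LinearMap.range (g0 f n) :=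
    (k.quotKerEquivOfSurjective hk).symm ≪≫ₗ Submodule.quotEquivOfEq _ _ hkk ≪≫ₗ
      (g0 f n).quotKerEquivRange
  have h1 := Module.length_eq_add_of_exact (LinearMap.range (g0 f n)).subtype
    (Submodule.factor (Ideal.pow_le_pow_right (I := Ideal.span (Set.range f))
        (Nat.le_succ n))) (LinearMap.range (g0 f n)).injective_subtype
    (Submodule.factor_surjective _) (by
      rw [LinearMap.exact_iff, Submodule.range_subtype, range_g0])
  rw [h1, ← e.length_eq, Module.length_pi, ENat.card_eq_coe_fintype_card,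
    Sym.card_sym_fin_eq_multichoose]

end quasi

/-- The Hilbert-Samuel function of a regular local ring. -/
theorem length_of_regular (A : Type u) [CommRing A] [IsRegularLocalRing A] (r : ℕ)
    (hr : ringKrullDim A = r) (s : ℕ) :
    Module.length A (A ⧸ maximalIdeal A ^ (s + 1)) = ((s + r).choose s : ℕ∞) := by
  obtain ⟨x, hx⟩ : ∃ x : Fin r → A, Ideal.span (Set.range x) = maximalIdeal A := by
    have hreg := IsRegularLocalRing.spanFinrank_maximalIdeal (R := A)
    rw [hr] at hreg
    have hfin : (maximalIdeal A).spanFinrank = r := by exact_mod_cast hreg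
    have hfg : (maximalIdeal A).FG := (maximalIdeal A).fg_of_isNoetherianRing
    have hf := Submodule.FG.finite_generators hfg
    have hc : (maximalIdeal A).generators.ncard = r := by
      rw [← hfin]
      exact Submodule.FG.generators_ncard hfg
    have e : Fin r ≃ (maximalIdeal A).generators := by
      have := hf.to_subtype
      exact (Finite.equivFinOfCardEq (by rw [Nat.card_coe_set_eq, hc])).symm
    refine ⟨fun i => (e i : A), ?_⟩
    have : Set.range (fun i => (e i : A)) = (maximalIdeal A).generators := by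
      ext y
      constructor
      · rintro ⟨i, rfl⟩
        exact (e i).2
      · intro hy
        exact ⟨e.symm ⟨y, hy⟩, by simp⟩
    rw [this]
    exact Submodule.span_generators _
  have hlist : Ideal.ofList (List.ofFn x) = maximalIdeal A := by
    rw [← hx]
    exact congrArg Ideal.span (Set.ext fun y => List.mem_ofFn' x y)
  have hreg := Groth.Agent.CalgA.RegBasic.isRegular_of_ofList_eq r A (List.ofFn x) (by simp) hr hlist
  have hq := isQuasiRegular_of_isWeaklyRegular x hreg.toIsWeaklyRegular
  have h1 : Module.length A (A ⧸ maximalIdeal A) = 1 := by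
    rw [Module.length_eq_one_iff]
    exact isSimpleModule_iff_quot_maximal.mpr ⟨maximalIdeal A, inferInstance, ⟨LinearEquiv.refl _ _⟩⟩
  induction s with
  | zero =>
    rw [zero_add, pow_one, h1, Nat.choose_zero_right, Nat.cast_one]
  | succ s ih =>
    have h2 := length_quot_pow_succ x hq (s + 1)
    rw [hx, h1, mul_one, ih] at h2
    rw [h2, Nat.multichoose_eq, ← Nat.cast_add]
    congr 1
    have h3 : r + (s + 1) - 1 = s + r := by omega
    rw [h3, show s + 1 + r = (s + r) + 1 by omega, Nat.choose_succ_succ, add_comm]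

/-- Converse. -/
theorem regular_of_length (A : Type u) [CommRing A] [IsLocalRing A] [IsNoetherianRing A]
    (h : ∀ s : ℕ, Module.length A (A ⧸ maximalIdeal A ^ (s + 1)) =
        ((s + Module.finrank (ResidueField A) (CotangentSpace A)).choose s : ℕ∞)) :
    IsRegularLocalRing A := by
  set r := Module.finrank (ResidueField A) (CotangentSpace A) with hr
  have hfin : Finite (MaximalSpectrum A) := by
    have : Subsingleton (MaximalSpectrum A) := ⟨fun a b => by
      ext1
      rw [IsLocalRing.eq_maximalIdeal a.isMaximal, IsLocalRing.eq_maximalIdeal b.isMaximal]⟩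
    infer_instance
  obtain ⟨P, ⟨N, hN⟩, hdeg⟩ := Groth.Agent.S3405.result A A
  have hjac : Ring.jacobson A = maximalIdeal A := IsLocalRing.ringJacobson_eq_maximalIdeal A
  have hev : ∀ n : ℕ, max N 1 ≤ n → P.eval (n : ℚ) =
      (Polynomial.preHilbertPoly ℚ r 1).eval (n : ℚ) := by
    intro n hn
    obtain ⟨m, rfl⟩ : ∃ m, n = m + 1 := ⟨n - 1, by omega⟩
    obtain ⟨ℓ, hℓ, hPℓ⟩ := hN (m + 1) (by omega)
    rw [← hPℓ, Polynomial.preHilbertPoly_eq_choose_sub_add ℚ r (by omega : 1 ≤ m + 1)]
    have h1 : (Ring.jacobson A ^ (m + 1) • (⊤ : Submodule A A)) = maximalIdeal A ^ (m + 1) := by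
      rw [hjac, smul_eq_mul, Ideal.mul_top]
    rw [h1, h m] at hℓ
    have h2 : (m + r).choose m = ℓ := by exact_mod_cast hℓ
    rw [← h2, show m + 1 - 1 + r = m + r by omega, Nat.choose_symm_add]
  have hP : P = Polynomial.preHilbertPoly ℚ r 1 := by
    apply Polynomial.eq_of_infinite_eval_eq
    refine Set.Infinite.mono (s := (fun n : ℕ => (n : ℚ)) '' Set.Ici (max N 1)) ?_ ?_
    · rintro _ ⟨n, hn, rfl⟩
      exact hev n hn
    · exact (Set.Ici_infinite _).image (Nat.cast_injective.injOn)
  rw [hP, Polynomial.natDegree_preHilbertPoly, Module.supportDim_self_eq_ringKrullDim] at hdeg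
  exact (IsRegularLocalRing.iff_finrank_cotangentSpace A).mpr hdeg

end K103.HilbReg
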