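import Groth.Agent.EGA41.K103.RegQuot
import Groth.Agent.Ega4A.PowSerReg
import Mathlib.RingTheory.PowerSeries.NoZeroDivisors
import Mathlib.RingTheory.PowerSeries.Inverse
import Mathlib.RingTheory.PowerSeries.Ideal

/-!
# Power series rings over regular rings are regular
-/

set_option autoImplicit false
universe u

namespace K103.PowSerRing

theorem X_mem_jacobson (R : Type u) [CommRing R] : (PowerSeries.X : PowerSeries R) ∈ Ring.jacobson (PowerSeries R) := by
  rw [← Ideal.jacobson_bot, Ideal.mem_jacobson_bot]
  intro y
  rw [PowerSeries.isUnit_iff_constantCoeff]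
  simp

theorem isRegularRing_powerSeries (R : Type u) [CommRing R] [IsRegularRing R] :
    IsRegularRing (PowerSeries R) := by
  have h1 : IsRegularRing (PowerSeries R ⧸ Ideal.span {(PowerSeries.X : PowerSeries R)}) :=
    IsRegularRing.of_ringEquiv (Groth.Agent.Ega4A.PowSerReg.quotXEquiv R).symm
  exact K103.RegQuot.isRegularRing_of_quotient PowerSeries.X (X_mem_jacobson R)
    (MvPowerSeries.X_mem_nonzeroDivisors (R := R) (i := ()))

theorem isRegularRing_mvPowerSeries (R : Type u) [CommRing R] [IsRegularRing R] (n : ℕ) :
    IsRegularRing (MvPowerSeries (Fin n) R) := by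
  induction n with
  | zero =>
    exact IsRegularRing.of_ringEquiv (MvPowerSeries.isEmptyEquiv (Fin 0) R).toRingEquiv.symm
  | succ n ih =>
    have := isRegularRing_powerSeries (MvPowerSeries (Fin n) R)
    exact IsRegularRing.of_ringEquiv (MvPowerSeries.finSuccEquiv R n).toRingEquiv.symm

end K103.PowSerRing
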