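import Groth.Agent.Ega4late.H544.CotLin
import Groth.Agent.CalgA.RegBasic
import Mathlib.RingTheory.Ideal.KrullsHeightTheorem
import Mathlib.LinearAlgebra.Dimension.OrzechProperty

/-!
# Parts of regular systems of parameters
-/

set_option autoImplicit false
universe u

namespace K103.RegPar

open IsLocalRing Groth.Agent.Ega4late.H544.CotLin Module

variable {R : Type u} [CommRing R] [IsLocalRing R] [IsNoetherianRing R]

/-- `embdim (R/J) + dim (J + m²/m²) ≤ embdim R`. -/
theorem spanFinrank_quot_add_le (J : Ideal R) (hJ : J ≤ maximalIdeal R) [IsLocalRing (R ⧸ J)] :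
    (maximalIdeal (R ⧸ J)).spanFinrank + finrank (ResidueField R) (cotSpan (J : Set R)) ≤
      finrank (ResidueField R) (CotangentSpace R) := by
  obtain ⟨c, y, hc, hy⟩ := exists_lift_basis J hJ
  have h1 : maximalIdeal (R ⧸ J) = Ideal.span (Set.range fun i ↦ Ideal.Quotient.mk J (y i : R)) := by
    apply le_antisymm
    · intro z hz
      obtain ⟨x, rfl⟩ := Ideal.Quotient.mk_surjective z
      have hx : x ∈ maximalIdeal R := by
        rw [mem_maximalIdeal, mem_nonunits_iff] at hz ⊢
        exact fun h ↦ hz (h.map _)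
      have h2 := Ideal.mem_map_of_mem (Ideal.Quotient.mk J) (hy hx)
      rw [Ideal.map_sup, Ideal.map_quotient_self, sup_bot_eq, Ideal.map_span, ← Set.range_comp] at h2
      exact h2
    · rw [Ideal.span_le]
      rintro _ ⟨i, rfl⟩
      rw [SetLike.mem_coe, mem_maximalIdeal, mem_nonunits_iff]
      intro hu
      have hloc : IsLocalHom (Ideal.Quotient.mk J) := IsLocalHom.of_surjective _ Ideal.Quotient.mk_surjective
      exact (y i).2 (isUnit_of_map_unit _ _ hu)
  have h2 : (maximalIdeal (R ⧸ J)).spanFinrank ≤ c := by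
    rw [h1]
    refine (Submodule.spanFinrank_span_le_ncard_of_finite (Set.finite_range _)).trans ?_
    rw [← Set.image_univ]
    refine (Set.ncard_image_le Set.finite_univ).trans ?_
    rw [Set.ncard_univ, Nat.card_fin]
  omega

omit [IsNoetherianRing R] in
/-- the span of the classes is spanned by the classes of the generators -/
theorem finrank_cotSpan (r : ℕ) (x : Fin r → maximalIdeal R) :
    finrank (ResidueField R) (cotSpan (Ideal.span (Set.range fun i => (x i : R)) : Set R)) =
      (Set.range fun i => (maximalIdeal R).toCotangent (x i)).finrank (ResidueField R) := by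
  rw [cotSpan_span]
  · unfold cotSpan Set.finrank
    have h : (maximalIdeal R).toCotangent '' {y | (y : R) ∈ Set.range fun i => (x i : R)} =
        Set.range fun i => (maximalIdeal R).toCotangent (x i) := by
      ext v
      constructor
      · rintro ⟨y, ⟨i, hi⟩, rfl⟩
        exact ⟨i, congrArg _ (Subtype.ext hi)⟩
      · rintro ⟨i, rfl⟩
        exact ⟨x i, ⟨i, rfl⟩, rfl⟩
    rw [h]
  · rintro _ ⟨i, rfl⟩
    exact (x i).2

theorem main (r : ℕ) (x : Fin r → maximalIdeal R) :
    (IsRegularLocalRing R ∧
        LinearIndependent (ResidueField R) (fun i => (maximalIdeal R).toCotangent (x i))) ↔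
      (ringKrullDim (R ⧸ Ideal.span (Set.range fun i => (x i : R))) + r = ringKrullDim R ∧
        IsRegularLocalRing (R ⧸ Ideal.span (Set.range fun i => (x i : R)))) := by
  set J : Ideal R := Ideal.span (Set.range fun i => (x i : R)) with hJdef
  have hJ : J ≤ maximalIdeal R := by
    rw [hJdef, Ideal.span_le]
    rintro _ ⟨i, rfl⟩
    exact (x i).2
  have hloc : IsLocalRing (R ⧸ J) := by
    have : Nontrivial (R ⧸ J) := Ideal.Quotient.nontrivial_iff.mpr
      (fun h => (maximalIdeal.isMaximal R).ne_top (top_le_iff.mp (h ▸ hJ)))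
    exact IsLocalRing.of_surjective' (Ideal.Quotient.mk J) Ideal.Quotient.mk_surjective
  obtain ⟨d, hd⟩ := Groth.Agent.CalgA.RegBasic.ringKrullDim_eq_natCast R
  obtain ⟨d', hd'⟩ := Groth.Agent.CalgA.RegBasic.ringKrullDim_eq_natCast (R ⧸ J)
  set e := finrank (ResidueField R) (CotangentSpace R) with he
  set e' := (maximalIdeal (R ⧸ J)).spanFinrank with he'
  set s := finrank (ResidueField R) (cotSpan (J : Set R)) with hs
  have hsr : s = (Set.range fun i => (maximalIdeal R).toCotangent (x i)).finrank (ResidueField R) :=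
    finrank_cotSpan r x
  have hs_le : s ≤ r := by
    rw [hsr]
    have := finrank_range_le_card (R := ResidueField R) (fun i => (maximalIdeal R).toCotangent (x i))
    rwa [Fintype.card_fin] at this
  have hli : LinearIndependent (ResidueField R) (fun i => (maximalIdeal R).toCotangent (x i)) ↔ r ≤ s := by
    rw [linearIndependent_iff_card_le_finrank_span, Fintype.card_fin, hsr]
  have h1 : e' + s ≤ e := spanFinrank_quot_add_le J hJ
  have h2 : e ≤ e' + s := finrank_cotangentSpace_le J hJ
  have h3 : d ≤ d' + r := by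
    have h := ringKrullDim_le_ringKrullDim_quotient_add_encard (Set.range fun i => (x i : R)) (by
      rintro _ ⟨i, rfl⟩
      rw [SetLike.mem_coe, IsLocalRing.ringJacobson_eq_maximalIdeal]
      exact (x i).2)
    rw [hd, ← hJdef, hd'] at h
    have hcard : (Set.range fun i => (x i : R)).encard ≤ r := by
      rw [← Set.image_univ]
      refine (Set.encard_image_le _ _).trans ?_
      simp
    have h' : (d : WithBot ℕ∞) ≤ d' + ((r : ℕ∞) : WithBot ℕ∞) := h.trans (by
      gcongr
      exact WithBot.coe_le_coe.mpr hcard)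
    exact_mod_cast h'
  have h4 : d' ≤ e' := by
    have := ringKrullDim_le_spanFinrank_maximalIdeal (R ⧸ J)
    rw [hd'] at this
    exact_mod_cast this
  have h5 : d ≤ e := by
    have := ringKrullDim_le_spanFinrank_maximalIdeal R
    rw [hd, spanFinrank_maximalIdeal_eq_finrank_cotangentSpace] at this
    exact_mod_cast this
  have hRreg : IsRegularLocalRing R ↔ e = d := by
    rw [IsRegularLocalRing.iff_finrank_cotangentSpace, hd]
    exact Nat.cast_inj
  have hQreg : IsRegularLocalRing (R ⧸ J) ↔ e' = d' := by
    rw [isRegularLocalRing_iff, hd']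
    exact Nat.cast_inj
  rw [hRreg, hli, hQreg, hd, hd']
  have hcast : ((d' : WithBot ℕ∞) + (r : WithBot ℕ∞) = (d : WithBot ℕ∞)) ↔ d' + r = d := by
    norm_cast
  rw [hcast]
  omega

end K103.RegPar
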