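import Groth.Agent.CalgB.AdicGeomReg
import Groth.Agent.CalgA.RegBasic
import Mathlib.RingTheory.Localization.Ideal
import Mathlib.RingTheory.RegularLocalRing.Defs

/-!
# A Noetherian ring is regular if its quotient by a regular element of the Jacobson radical is
-/

set_option autoImplicit false
universe u

namespace K103.RegQuot

open IsLocalRing

/-- `R_P / I R_P` is the localization of `R/I` at `P/I`. -/
theorem isLocalization_quotient {R : Type u} [CommRing R] (I P : Ideal R) [P.IsPrime] (h : I ≤ P)
    [hP : (P.map (Ideal.Quotient.mk I)).IsPrime] :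
    IsLocalization.AtPrime (Localization.AtPrime P ⧸ I.map (algebraMap R (Localization.AtPrime P)))
      (P.map (Ideal.Quotient.mk I)) := by
  have hmem : ∀ x : R, Ideal.Quotient.mk I x ∈ P.map (Ideal.Quotient.mk I) ↔ x ∈ P := by
    intro x
    rw [← Ideal.mem_comap, Ideal.comap_map_of_surjective _ Ideal.Quotient.mk_surjective,
      ← RingHom.ker_eq_comap_bot, Ideal.mk_ker, sup_eq_left.mpr h]
  have h1 : Algebra.algebraMapSubmonoid (R ⧸ I) P.primeCompl =
      (P.map (Ideal.Quotient.mk I)).primeCompl := by
    ext x
    constructor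
    · rintro ⟨y, hy, rfl⟩
      exact fun hy' => hy ((hmem y).mp hy')
    · intro hx
      obtain ⟨y, rfl⟩ := Ideal.Quotient.mk_surjective x
      exact ⟨y, fun hy => hx ((hmem y).mpr hy), rfl⟩
  have h2 : IsLocalization (Algebra.algebraMapSubmonoid (R ⧸ I) P.primeCompl)
      (Localization.AtPrime P ⧸ I.map (algebraMap R (Localization.AtPrime P))) := inferInstance
  rw [h1] at h2
  exact h2

/-- `R_P / I R_P` is regular if `R/I` is regular. -/
theorem isRegularLocalRing_quotient {R : Type u} [CommRing R] (I P : Ideal R) [P.IsPrime] (h : I ≤ P)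
    [IsRegularRing (R ⧸ I)] :
    IsRegularLocalRing (Localization.AtPrime P ⧸ I.map (algebraMap R (Localization.AtPrime P))) := by
  have hP : (P.map (Ideal.Quotient.mk I)).IsPrime :=
    Ideal.map_isPrime_of_surjective Ideal.Quotient.mk_surjective (by rwa [Ideal.mk_ker])
  have := isLocalization_quotient I P h
  have h1 : IsRegularLocalRing (Localization.AtPrime (P.map (Ideal.Quotient.mk I))) :=
    isRegularRing_iff.mp inferInstance _
  exact IsRegularLocalRing.of_ringEquiv (IsLocalization.algEquiv
    (P.map (Ideal.Quotient.mk I)).primeCompl (Localization.AtPrime (P.map (Ideal.Quotient.mk I)))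
    (Localization.AtPrime P ⧸ I.map (algebraMap R (Localization.AtPrime P)))).toRingEquiv

/-- If `x` is a nonzerodivisor in the Jacobson radical and `R/x` is regular then `R` is regular. -/
theorem isRegularRing_of_quotient {R : Type u} [CommRing R] [IsNoetherianRing R] (x : R)
    (hx : x ∈ Ring.jacobson R) (hreg : x ∈ nonZeroDivisors R) [IsRegularRing (R ⧸ Ideal.span {x})] :
    IsRegularRing R := by
  refine Groth.Agent.CalgB.AdicGeomReg.isRegularRing_of_isMaximal fun M _ => ?_
  have hxM : x ∈ M := Ring.jacobson_le_of_isMaximal M hx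
  have h1 := isRegularLocalRing_quotient (Ideal.span {x}) M ((Ideal.span_singleton_le_iff_mem _).mpr hxM)
  rw [Ideal.map_span, Set.image_singleton] at h1
  refine Groth.Agent.CalgA.RegBasic.of_quotient (algebraMap R (Localization.AtPrime M) x) ?_ ?_
  · rw [← Localization.AtPrime.map_eq_maximalIdeal]
    exact Ideal.mem_map_of_mem _ hxM
  · exact IsLocalization.map_nonZeroDivisors_le M.primeCompl (Localization.AtPrime M)
      ⟨x, hreg, rfl⟩

end K103.RegQuot
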