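import Mathlib.RingTheory.LocalRing.ResidueField.Basic
import Mathlib.RingTheory.Ideal.Cotangent
import Mathlib.RingTheory.QuotSMulTop
import Mathlib.LinearAlgebra.Dual.Lemmas

/-!
# `m/Aa` is a direct summand of `m/am` for `a ∈ m \ m²`
-/

set_option autoImplicit false
universe u

namespace K103.Split

open IsLocalRing Pointwise

variable {A : Type u} [CommRing A] [IsLocalRing A]

theorem exists_functional (v : CotangentSpace A) (hv : v ≠ 0) :
    ∃ φ : CotangentSpace A →ₗ[ResidueField A] ResidueField A, φ v = 1 := by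
  by_contra hcon
  push Not at hcon
  apply hv
  rw [← Module.forall_dual_apply_eq_zero_iff (ResidueField A)]
  intro φ
  by_contra h
  refine hcon ((φ v)⁻¹ • φ) ?_
  rw [LinearMap.smul_apply, smul_eq_mul, inv_mul_cancel₀ h]

theorem exists_splitting (a : A) (ha : a ∈ maximalIdeal A) (ha2 : a ∉ maximalIdeal A ^ 2) :
    ∃ (f : (↥(maximalIdeal A) ⧸ Submodule.span A {(⟨a, ha⟩ : ↥(maximalIdeal A))}) →ₗ[A]
          QuotSMulTop a ↥(maximalIdeal A))
      (g : QuotSMulTop a ↥(maximalIdeal A) →ₗ[A]
          (↥(maximalIdeal A) ⧸ Submodule.span A {(⟨a, ha⟩ : ↥(maximalIdeal A))})),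
      g.comp f = LinearMap.id := by
  set a' : ↥(maximalIdeal A) := ⟨a, ha⟩ with ha'
  have hne : (maximalIdeal A).toCotangent a' ≠ 0 := by
    rw [Ne, Ideal.toCotangent_eq_zero]
    exact ha2
  obtain ⟨φ, hφ⟩ := exists_functional _ hne
  -- the class of `a` in `m/am`
  let π : ↥(maximalIdeal A) →ₗ[A] QuotSMulTop a ↥(maximalIdeal A) := Submodule.mkQ _
  have hkill : maximalIdeal A ≤ LinearMap.ker (LinearMap.toSpanSingleton A _ (π a')) := by
    intro x hx
    rw [LinearMap.mem_ker, LinearMap.toSpanSingleton_apply, ← map_smul]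
    apply (Submodule.Quotient.mk_eq_zero _).mpr
    have : x • a' = a • (⟨x, hx⟩ : ↥(maximalIdeal A)) := by
      ext
      simp [ha', mul_comm]
    rw [this]
    exact Submodule.smul_mem_pointwise_smul _ _ _ trivial
  let ψ : (A ⧸ maximalIdeal A) →ₗ[A] QuotSMulTop a ↥(maximalIdeal A) :=
    (maximalIdeal A).liftQ (LinearMap.toSpanSingleton A _ (π a')) hkill
  have hψ : ∀ c : A, ψ (Submodule.Quotient.mk c) = c • π a' := by
    intro c
    rfl
  let F : ↥(maximalIdeal A) →ₗ[A] QuotSMulTop a ↥(maximalIdeal A) :=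
    π - ψ.comp ((φ.restrictScalars A).comp (maximalIdeal A).toCotangent)
  have hF : ∀ y, ∃ c : A, F y = π y - c • π a' := by
    intro y
    obtain ⟨c, hc⟩ := Ideal.Quotient.mk_surjective (φ ((maximalIdeal A).toCotangent y) : A ⧸ maximalIdeal A)
    refine ⟨c, ?_⟩
    have h1 : ψ (φ ((maximalIdeal A).toCotangent y)) = c • π a' := by
      rw [← hψ c]
      exact congrArg ψ hc.symm
    rw [← h1]
    rfl
  have hFa : F a' = 0 := by
    have h1 : ψ (φ ((maximalIdeal A).toCotangent a')) = π a' := by
      rw [hφ]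
      have := hψ 1
      rw [one_smul] at this
      exact this
    have h2 : F a' = π a' - ψ (φ ((maximalIdeal A).toCotangent a')) := rfl
    rw [h2, h1, sub_self]
  refine ⟨(Submodule.span A {a'}).liftQ F ?_, (a • (⊤ : Submodule A ↥(maximalIdeal A))).liftQ
    (Submodule.span A {a'}).mkQ ?_, ?_⟩
  · rw [Submodule.span_le, Set.singleton_subset_iff]
    exact hFa
  · intro z hz
    obtain ⟨y, -, hy⟩ := (Submodule.mem_smul_pointwise_iff_exists _ _ _).mp hz
    rw [LinearMap.mem_ker, Submodule.mkQ_apply, Submodule.Quotient.mk_eq_zero,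
      Submodule.mem_span_singleton]
    refine ⟨(y : A), ?_⟩
    rw [← hy]
    ext
    simp [ha', mul_comm]
  · apply Submodule.linearMap_qext
    ext y : 1
    obtain ⟨c, hc⟩ := hF y
    simp only [LinearMap.comp_apply, Submodule.mkQ_apply, Submodule.liftQ_apply, hc, map_sub, map_smul,
      LinearMap.id_apply]
    have h2 : ∀ z : ↥(maximalIdeal A), (a • (⊤ : Submodule A ↥(maximalIdeal A))).liftQ
        (Submodule.span A {a'}).mkQ (by
          intro z hz
          obtain ⟨y, -, hy⟩ := (Submodule.mem_smul_pointwise_iff_exists _ _ _).mp hz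
          rw [LinearMap.mem_ker, Submodule.mkQ_apply, Submodule.Quotient.mk_eq_zero,
            Submodule.mem_span_singleton]
          refine ⟨(y : A), ?_⟩
          rw [← hy]
          ext
          simp [ha', mul_comm]) (π z) = (Submodule.span A {a'}).mkQ z := fun z => rfl
    rw [h2, h2]
    have h3 : (Submodule.span A {a'}).mkQ a' = 0 := by
      rw [Submodule.mkQ_apply, Submodule.Quotient.mk_eq_zero]
      exact Submodule.mem_span_singleton_self _
    rw [h3, smul_zero, sub_zero]
    rfl

end K103.Split
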