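import Mathlib.RingTheory.KrullDimension.Regular
import Mathlib.RingTheory.KrullDimension.Module
import Mathlib.RingTheory.Support

/-!
# Supports and dimensions of quotients (general facts)

* `supportDim_quotient_prime`: for a prime `p` in the support of a finite module `M`, `dim (M/pM) = dim (A/p)`;
* `supportDim_congr_support`: the dimension only depends on the support.
-/

set_option autoImplicit false
universe u v w

namespace K103.Supp

open Module

/-- The dimension of a module only depends on its support. -/
theorem supportDim_congr_support {R : Type u} [CommRing R] {M : Type v} {N : Type w} [AddCommGroup M]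
    [Module R M] [AddCommGroup N] [Module R N] (h : Module.support R M = Module.support R N) :
    Module.supportDim R M = Module.supportDim R N := by
  unfold Module.supportDim
  rw [h]

/-- For a prime `p` in the support of a finite module `M`, `Supp (M/pM) = V(p)`. -/
theorem support_quotient_prime {R : Type u} [CommRing R] {M : Type v} [AddCommGroup M]
    [Module R M] [Module.Finite R M] (p : Ideal R) [hp : p.IsPrime]
    (h : (⟨p, hp⟩ : PrimeSpectrum R) ∈ Module.support R M) :
    Module.support R (M ⧸ (p • (⊤ : Submodule R M))) = PrimeSpectrum.zeroLocus (p : Set R) := by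
  rw [Module.support_quotient, Set.inter_eq_right]
  intro q hq
  exact Module.mem_support_mono (show (⟨p, hp⟩ : PrimeSpectrum R) ≤ q from hq) h

/-- For a prime `p` in the support of a finite module `M`, `dim (M/pM) = dim (R/p)`. -/
theorem supportDim_quotient_prime {R : Type u} [CommRing R] {M : Type v} [AddCommGroup M]
    [Module R M] [Module.Finite R M] (p : Ideal R) [hp : p.IsPrime]
    (h : (⟨p, hp⟩ : PrimeSpectrum R) ∈ Module.support R M) :
    Module.supportDim R (M ⧸ (p • (⊤ : Submodule R M))) = ringKrullDim (R ⧸ p) := by
  rw [← Module.supportDim_quotient_eq_ringKrullDim]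
  apply supportDim_congr_support
  rw [support_quotient_prime p h, Module.support_eq_zeroLocus, Ideal.annihilator_quotient]

/-- For a prime `p` in the support of a finite module `M`, `dim (R/p) ≤ dim M`. -/
theorem ringKrullDim_quotient_le {R : Type u} [CommRing R] {M : Type v} [AddCommGroup M]
    [Module R M] [Module.Finite R M] (p : Ideal R) [hp : p.IsPrime]
    (h : (⟨p, hp⟩ : PrimeSpectrum R) ∈ Module.support R M) :
    ringKrullDim (R ⧸ p) ≤ Module.supportDim R M := by
  rw [← supportDim_quotient_prime p h]
  exact Module.supportDim_le_of_surjective _ (Submodule.mkQ_surjective _)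

end K103.Supp
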